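import Mathlib.Algebra.Homology.DerivedCategory.Ext.ExactSequences
import Mathlib.Algebra.Homology.DerivedCategory.FullyFaithful
import Mathlib.Algebra.Homology.HomotopyCategory.Pretriangulated
import Mathlib.Algebra.Homology.HomotopyCategory.HomComplexSingle
import Mathlib.Algebra.Homology.SingleHomology
import Mathlib.Algebra.Homology.DerivedCategory.Ext.EnoughInjectives
import Groth.Agent.DHA.KInj.Products

/-!
# Complexes of acyclic objects compute morphisms out of a single object

If `Extⁱ(F, -) = 0` for large `i` (or the complex is bounded below), complexes with terms acyclic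
for `F` compute `Hom(F[0], -)` in the derived category.
-/

set_option backward.isDefEq.respectTransparency.types false
set_option backward.isDefEq.respectTransparency false

universe w w' v u

open CategoryTheory CategoryTheory.Limits DerivedCategory Pretriangulated

namespace Groth.Agent.CohDerLib.Compact

variable {A : Type u} [Category.{v} A] [Abelian A] [HasExt.{w'} A]

/-- `Y` is acyclic for `F` -/
def Acyclic (F Y : A) : Prop := ∀ k : ℕ, 0 < k → Subsingleton (Abelian.Ext F Y k)

/-- either finite cohomological dimension, or boundedness below -/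
def Bound (F : A) (C : CochainComplex A ℤ) : Prop :=
  (∃ d : ℕ, ∀ (Y : A) (k : ℕ), d < k → Subsingleton (Abelian.Ext F Y k)) ∨ ∃ b : ℤ, C.IsStrictlyGE b

variable {F : A}

lemma acyclic_of_injective (F Y : A) [Injective Y] : Acyclic F Y := fun k hk => by
  obtain ⟨p, rfl⟩ : ∃ p, k = p + 1 := ⟨k - 1, by omega⟩
  exact subsingleton_of_forall_eq 0 fun x => Abelian.Ext.eq_zero_of_injective x

lemma acyclic_of_isZero (F : A) {Y : A} (hY : IsZero Y) : Acyclic F Y :=
  have := hY.injective
  acyclic_of_injective F Y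

/-- In an exact complex of acyclic objects maps to cocycles lift. -/
theorem exists_lift (C : CochainComplex A ℤ) (hex : ∀ p, C.ExactAt p) (hC : ∀ p, Acyclic F (C.X p))
    (hb : Bound F C) (z : F ⟶ C.X 0) (hz : z ≫ C.d 0 1 = 0) :
    ∃ w : F ⟶ C.X (-1), w ≫ C.d (-1) 0 = z := by
  let T := fun p : ℤ => ShortComplex.mk (C.iCycles p) (C.toCycles p (p + 1))
    (by rw [← cancel_mono (C.iCycles (p + 1))]; simp)
  have hT : ∀ p, (T p).ShortExact := fun p => by
    have : Epi (C.toCycles p (p + 1)) := by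
      refine ((C.exactAt_iff' p (p + 1) (p + 1 + 1) (by simp) (by simp)).1 (hex _)).epi_kernelLift.rec ?_
      intro h
      let e := (C.cyclesIsKernel (p + 1) (p + 1 + 1) (by simp)).conePointUniqueUpToIso
        (kernelIsKernel (C.d (p + 1) (p + 1 + 1)))
      have he : C.toCycles p (p + 1) ≫ e.hom =
          kernel.lift (C.d (p + 1) (p + 1 + 1)) (C.d p (p + 1)) (C.d_comp_d _ _ _) := by
        apply equalizer.hom_ext
        rw [kernel.lift_ι, Category.assoc]
        erw [IsLimit.conePointUniqueUpToIso_hom_comp _ _ WalkingParallelPair.zero]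
        exact C.toCycles_i _ _
      exact (epi_comp_iff_of_isIso (C.toCycles p (p + 1)) e.hom).1 (he ▸ ⟨h⟩)
    exact
      { exact := ShortComplex.exact_of_f_is_kernel _ (KernelFork.IsLimit.ofι' (C.iCycles p) _ fun {W} g hg =>
          ⟨C.liftCycles g (p + 1) (by simp) (by
            have := congrArg (· ≫ C.iCycles (p + 1)) hg
            simpa [T] using this), C.liftCycles_i _ _ _ _⟩) }
  obtain ⟨N, hN0, hN⟩ : ∃ N : ℕ, 0 < N ∧ Subsingleton (Abelian.Ext F (C.cycles (-(N : ℤ))) N) := by
    rcases hb with ⟨d, hd⟩ | ⟨b, hb⟩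
    · exact ⟨d + 1, by omega, hd _ _ (by omega)⟩
    · refine ⟨(-b).toNat + 1, by omega, acyclic_of_isZero F ?_ _ (by omega)⟩
      exact IsZero.of_mono (C.iCycles _) (C.isZero_of_isStrictlyGE b _ (by omega))
  have key : ∀ j k : ℕ, k + j = N → 0 < k → Subsingleton (Abelian.Ext F (C.cycles (-(k : ℤ))) k) := by
    intro j
    induction j with
    | zero => intro k hk _; obtain rfl : k = N := by omega
              exact hN
    | succ j ih =>
      intro k hk hk0
      have h1 := ih (k + 1) (by omega) (by omega)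
      have e : -((k + 1 : ℕ) : ℤ) + 1 = -(k : ℤ) := by omega
      have h2 : Subsingleton (Abelian.Ext F (C.cycles (-((k + 1 : ℕ) : ℤ) + 1)) k) := by
        refine subsingleton_of_forall_eq 0 fun x => ?_
        obtain ⟨y, rfl⟩ := Abelian.Ext.covariant_sequence_exact₃ F (hT (-((k + 1 : ℕ) : ℤ))) x rfl
          (h1.elim _ _)
        rw [(hC _ k hk0).elim y 0, Abelian.Ext.zero_comp]
      rw [e] at h2
      exact h2
  let z' : F ⟶ (T (-1)).X₃ := C.liftCycles z 1 (by simp) hz
  obtain ⟨y, hy⟩ := Abelian.Ext.covariant_sequence_exact₃ F (hT (-1)) (Abelian.Ext.mk₀ z')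
    (zero_add 1) ((key (N - 1) 1 (by omega) (by omega)).elim _ _)
  obtain ⟨w, rfl⟩ := (Abelian.Ext.mk₀_bijective F _).2 y
  rw [Abelian.Ext.mk₀_comp_mk₀] at hy
  have hw := (Abelian.Ext.mk₀_bijective F _).1 hy
  refine ⟨w, ?_⟩
  rw [← C.toCycles_i (-1) 0]
  exact (Category.assoc _ _ _).symm.trans
    ((congrArg (· ≫ C.iCycles 0) hw).trans (C.liftCycles_i _ _ _ _))

variable [HasDerivedCategory.{w} A]

/-- the chain map attached to a cocycle -/
noncomputable def ofCocycle {C : CochainComplex A ℤ} (z : F ⟶ C.X 0) (hz : z ≫ C.d 0 1 = 0) :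
    (CochainComplex.singleFunctor A 0).obj F ⟶ C :=
  HomologicalComplex.mkHomFromSingle (c := ComplexShape.up ℤ) z
    (fun k (hk : 0 + 1 = k) => by subst hk; exact hz)

omit [HasExt.{w'} A] [HasDerivedCategory.{w} A] in
lemma exists_ofCocycle {C : CochainComplex A ℤ} (f : (CochainComplex.singleFunctor A 0).obj F ⟶ C) :
    ∃ (z : F ⟶ C.X 0) (hz : z ≫ C.d 0 1 = 0), ofCocycle z hz = f := by
  refine ⟨(HomologicalComplex.singleObjXSelf (ComplexShape.up ℤ) 0 F).inv ≫ f.f 0, ?_, ?_⟩
  · rw [Category.assoc, f.comm,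
      show ((CochainComplex.singleFunctor A 0).obj F).d 0 1 = 0 from
        HomologicalComplex.single_obj_d _ _ _ _ _, zero_comp, comp_zero]
  · apply HomologicalComplex.from_single_hom_ext
    simp [ofCocycle]

omit [HasExt.{w'} A] [HasDerivedCategory.{w} A] in
/-- coboundaries give null-homotopic maps -/
lemma nullHomotopy_ofCocycle {C : CochainComplex A ℤ} (z : F ⟶ C.X 0) (hz : z ≫ C.d 0 1 = 0)
    (w : F ⟶ C.X (-1)) (hw : w ≫ C.d (-1) 0 = z) : Nonempty (Homotopy (ofCocycle z hz) 0) := by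
  let h : CochainComplex.HomComplex.Cochain ((CochainComplex.singleFunctor A 0).obj F) C (-1) :=
    CochainComplex.HomComplex.Cochain.fromSingleMk w (by omega)
  have hh : CochainComplex.HomComplex.δ (-1) 0 h =
      CochainComplex.HomComplex.Cochain.ofHom (ofCocycle z hz) := by
    rw [CochainComplex.HomComplex.Cochain.δ_fromSingleMk _ _ 0 0 (by omega)]
    refine (CochainComplex.HomComplex.Cochain.fromSingleEquiv (by omega : (0 : ℤ) + 0 = 0)).injective ?_
    simp [hw, ofCocycle, CochainComplex.HomComplex.Cochain.fromSingleEquiv]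
  exact ⟨(CochainComplex.HomComplex.Cochain.equivHomotopy _ _).symm ⟨h, by simp [hh]⟩⟩

omit [HasDerivedCategory.{w} A] in
lemma homotopy_zero (C : CochainComplex A ℤ) (hex : ∀ p, C.ExactAt p)
    (hC : ∀ p, Acyclic F (C.X p)) (hb : Bound F C)
    (φ : (HomotopyCategory.quotient A _).obj ((CochainComplex.singleFunctor A 0).obj F) ⟶
      (HomotopyCategory.quotient A _).obj C) : φ = 0 := by
  obtain ⟨f, rfl⟩ := (HomotopyCategory.quotient A _).map_surjective φ
  obtain ⟨z, hz, rfl⟩ := exists_ofCocycle f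
  obtain ⟨w, hw⟩ := exists_lift C hex hC hb z hz
  obtain ⟨h⟩ := nullHomotopy_ofCocycle z hz w hw
  exact (HomotopyCategory.eq_of_homotopy _ _ h).trans (Functor.map_zero _ _ _)

/-- Complexes of acyclics compute morphisms in the derived category. -/
theorem Q_map_single_bijective (L : CochainComplex A ℤ) (hL : ∀ p, Acyclic F (L.X p))
    (hI : ∃ (I : CochainComplex A ℤ) (r : L ⟶ I), QuasiIso r ∧ I.IsKInjective ∧
      (∀ p, Injective (I.X p)) ∧
      ((∃ d : ℕ, ∀ (Y : A) (k : ℕ), d < k → Subsingleton (Abelian.Ext F Y k)) ∨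
        ∃ b : ℤ, L.IsStrictlyGE b ∧ I.IsStrictlyGE b)) :
    (∀ φ : Q.obj ((CochainComplex.singleFunctor A 0).obj F) ⟶ Q.obj L,
      ∃ (z : F ⟶ L.X 0) (hz : z ≫ L.d 0 1 = 0), Q.map (ofCocycle z hz) = φ) ∧
    ∀ (z : F ⟶ L.X 0) (hz : z ≫ L.d 0 1 = 0), Q.map (ofCocycle z hz) = 0 →
      ∃ w : F ⟶ L.X (-1), w ≫ L.d (-1) 0 = z := by
  obtain ⟨I, r, hr, hKI, hinj, hb⟩ := hI
  let Cn := CochainComplex.mappingCone r
  have hQr : IsIso (Q.map r) := (isIso_Q_map_iff_quasiIso _ _).2 hr
  have hex : ∀ p, Cn.ExactAt p := fun p => by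
    rw [HomologicalComplex.exactAt_iff_isZero_homology]
    have hz : IsZero (Q.obj Cn) :=
      Triangle.isZero₃_of_isIso₁ _ (mappingCone_triangle_distinguished r) hQr
    exact ((homologyFunctor A p).map_isZero hz).of_iso ((homologyFunctorFactors A p).app Cn).symm
  have hCn : ∀ p, Acyclic F (Cn.X p) := fun p k hk => by
    refine subsingleton_of_forall_eq 0 fun x => ?_
    have := hL (p + 1) k hk
    have := acyclic_of_injective F (I.X p) k hk
    rw [← x.comp_mk₀_id, ← CochainComplex.mappingCone.id_X r p (p + 1) rfl, Abelian.Ext.mk₀_add,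
      Abelian.Ext.comp_add, ← Abelian.Ext.mk₀_comp_mk₀, ← Abelian.Ext.mk₀_comp_mk₀]
    rw [← Abelian.Ext.comp_assoc_of_third_deg_zero, ← Abelian.Ext.comp_assoc_of_third_deg_zero,
      Subsingleton.elim (x.comp (Abelian.Ext.mk₀ ((CochainComplex.mappingCone.fst r).1.v p (p + 1) rfl))
        (add_zero k)) 0,
      Subsingleton.elim (x.comp (Abelian.Ext.mk₀ ((CochainComplex.mappingCone.snd r).v p p (add_zero p)))
        (add_zero k)) 0]
    simp
  have hbC : Bound F Cn ∧ Bound F (Cn⟦(-1 : ℤ)⟧) := by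
    rcases hb with h | ⟨b, hb, hb'⟩
    · exact ⟨Or.inl h, Or.inl h⟩
    · have : Cn.IsStrictlyGE (b - 1) := by
        rw [CochainComplex.isStrictlyGE_iff]
        intro i hi
        rw [IsZero.iff_id_eq_zero, ← CochainComplex.mappingCone.id_X r i (i + 1) rfl,
          (L.isZero_of_isStrictlyGE b (i + 1) (by omega)).eq_of_src
            ((CochainComplex.mappingCone.inl r).v (i + 1) i (by omega)) 0,
          (I.isZero_of_isStrictlyGE b i (by omega)).eq_of_src
            ((CochainComplex.mappingCone.inr r).f i) 0]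
        simp
      exact ⟨Or.inr ⟨b - 1, this⟩, Or.inr ⟨b, Cn.isStrictlyGE_shift (b - 1) (-1) b (by omega)⟩⟩
  have h0 : ∀ φ : (HomotopyCategory.quotient A _).obj ((CochainComplex.singleFunctor A 0).obj F) ⟶
      (HomotopyCategory.quotient A _).obj Cn, φ = 0 := homotopy_zero Cn hex hCn hbC.1
  have h1 : ∀ φ : (HomotopyCategory.quotient A _).obj ((CochainComplex.singleFunctor A 0).obj F) ⟶
      ((HomotopyCategory.quotient A _).obj Cn)⟦(-1 : ℤ)⟧, φ = 0 := by
    intro φ
    have hexs : ∀ p, (Cn⟦(-1 : ℤ)⟧).ExactAt p := fun p => by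
      rw [HomologicalComplex.exactAt_iff_isZero_homology]
      exact ((Cn.exactAt_iff_isZero_homology _).1 (hex (-1 + p))).of_iso
        (((HomologicalComplex.homologyFunctor A (ComplexShape.up ℤ) 0).shiftIso (-1 : ℤ) p (-1 + p) rfl).app Cn)
    have := homotopy_zero (F := F) (Cn⟦(-1 : ℤ)⟧) hexs (fun p => hCn (p + -1)) hbC.2
      (φ ≫ ((HomotopyCategory.quotient A _).commShiftIso (-1 : ℤ)).inv.app Cn)
    rwa [← cancel_mono (((HomotopyCategory.quotient A _).commShiftIso (-1 : ℤ)).inv.app Cn), zero_comp]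
  have hTd := HomotopyCategory.mappingCone_triangleh_distinguished r
  constructor
  · intro φ
    obtain ⟨f, hf⟩ := DHA.KInj.Q_map_surjective _ I (φ ≫ Q.map r)
    obtain ⟨g, hg⟩ := Triangle.coyoneda_exact₂ _ hTd ((HomotopyCategory.quotient A _).map f) (h0 _)
    obtain ⟨g', rfl⟩ := (HomotopyCategory.quotient A _).map_surjective g
    obtain ⟨z, hz, rfl⟩ := exists_ofCocycle g'
    refine ⟨z, hz, ?_⟩
    rw [← cancel_mono (Q.map r), ← hf, ← Q.map_comp]
    exact (DHA.KInj.Q_map_eq_of_homotopy (HomotopyCategory.homotopyOfEq _ _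
      (hg.trans ((HomotopyCategory.quotient A _).map_comp _ _).symm))).symm
  · intro z hz h
    obtain ⟨hh⟩ := DHA.KInj.homotopy_of_Q_map_eq (f := ofCocycle z hz ≫ r) (g := 0)
      (by rw [Q.map_comp, h, zero_comp, Q.map_zero])
    obtain ⟨g, hg⟩ := Triangle.coyoneda_exact₂ _ (inv_rot_of_distTriang _ hTd)
      ((HomotopyCategory.quotient A _).map (ofCocycle z hz))
      (((HomotopyCategory.quotient A _).map_comp _ _).symm.trans
        ((HomotopyCategory.eq_of_homotopy _ _ hh).trans (Functor.map_zero _ _ _)))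
    replace hg := hg.trans ((congrArg (· ≫ _) (h1 g)).trans zero_comp)
    let hz0 := HomotopyCategory.homotopyOfEq _ 0 (hg.trans (Functor.map_zero _ _ _).symm)
    refine ⟨(HomologicalComplex.singleObjXSelf (ComplexShape.up ℤ) 0 F).inv ≫ hz0.hom 0 (-1), ?_⟩
    have hc := hz0.comm 0
    rw [dNext_eq _ (show (ComplexShape.up ℤ).Rel 0 1 from rfl),
      prevD_eq _ (show (ComplexShape.up ℤ).Rel (-1) 0 by simp)] at hc
    rw [show ((CochainComplex.singleFunctor A 0).obj F).d 0 1 = 0 from
      HomologicalComplex.single_obj_d _ _ _ _ _, zero_comp, zero_add,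
      HomologicalComplex.zero_f, add_zero] at hc
    rw [Category.assoc]
    exact (congrArg (_ ≫ ·) hc.symm).trans (by simp [ofCocycle])

end Groth.Agent.CohDerLib.Compact
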