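import Groth.Agent.CohDerLib.Compact.Basic
import Groth.Agent.DHA.KInjectiveResolution
import Groth.Prelude.Def_CohDer
import Groth.Prelude.Def_CohCx
import Mathlib.Algebra.Category.Grp.Colimits
import Mathlib.CategoryTheory.Limits.Preserves.Shapes.Products
import Mathlib.Algebra.Homology.DerivedCategory.DerivabilityStructureInjectives

/-!
# Compactness of free sheaves
-/

set_option backward.isDefEq.respectTransparency.types false
set_option backward.isDefEq.respectTransparency false

universe w' v u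

open CategoryTheory CategoryTheory.Limits DerivedCategory Opposite DirectSum

namespace Groth.Agent.CohDerLib.Compact

section Ab

open scoped Classical in
/-- the coproduct of abelian groups is the direct sum -/
lemma bijective_of_isColimit {ι : Type u} {G : ι → AddCommGrpCat.{u}} (c : Cofan G) (hc : IsColimit c) :
    Function.Bijective (DirectSum.toAddMonoid fun i => (c.inj i).hom :
      (⨁ i, G i) →+ c.pt) := by
  let g : c.pt ⟶ AddCommGrpCat.of (⨁ i, G i) :=
    Cofan.IsColimit.desc hc fun i => AddCommGrpCat.ofHom (DirectSum.of (fun i => G i) i)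
  have hg : ∀ i (x : G i), g (c.inj i x) = DirectSum.of (fun i => G i) i x := fun i x =>
    ConcreteCategory.congr_hom (Cofan.IsColimit.fac hc
      (fun i => AddCommGrpCat.ofHom (DirectSum.of (fun i => G i) i)) i) x
  let f : AddCommGrpCat.of (⨁ i, G i) ⟶ c.pt :=
    AddCommGrpCat.ofHom (DirectSum.toAddMonoid fun i => (c.inj i).hom)
  have h1 : g ≫ f = 𝟙 _ := Cofan.IsColimit.hom_ext hc _ _ fun i => by
    ext x
    change f (g (c.inj i x)) = c.inj i x
    rw [hg]
    exact DirectSum.toAddMonoid_of (fun i => (c.inj i).hom) i x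
  refine ⟨Function.LeftInverse.injective (g := g) fun y => ?_,
    fun x => ⟨g x, ConcreteCategory.congr_hom h1 x⟩⟩
  induction y using DirectSum.induction_on with
  | zero => simp
  | of i x => rw [DirectSum.toAddMonoid_of]; exact hg i x
  | add a b ha hb => rw [map_add, map_add, ha, hb]

open scoped Classical in
lemma exists_map_eq {ι : Type*} {M N : ι → Type*} [∀ i, AddCommGroup (M i)] [∀ i, AddCommGroup (N i)]
    (g : ∀ i, M i →+ N i) (y : ⨁ i, N i) (h : ∀ i, ∃ x, g i x = y i) :
    ∃ x : ⨁ i, M i, DirectSum.map g x = y := by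
  choose x hx using h
  refine ⟨DirectSum.mk M (DFinsupp.support y) (fun i => x i.1), ?_⟩
  ext i
  rw [DirectSum.map_apply]
  by_cases hi : i ∈ DFinsupp.support y
  · rw [DirectSum.mk_apply_of_mem hi, hx]
  · rw [DirectSum.mk_apply_of_notMem hi, map_zero]
    exact (DFinsupp.notMem_support_iff.1 hi).symm

end Ab

section General

variable {A : Type u} [Category.{v} A] [Abelian A] [HasDerivedCategory.{v} A] (F : A)

/-- cocycles -/
noncomputable def cocycles (C : CochainComplex A ℤ) : AddSubgroup (F ⟶ C.X 0) :=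
  (Preadditive.rightComp F (C.d 0 1)).ker

omit [HasDerivedCategory.{v} A] in
lemma ofCocycle_add {C : CochainComplex A ℤ} (z z' : F ⟶ C.X 0) (hz : z ≫ C.d 0 1 = 0)
    (hz' : z' ≫ C.d 0 1 = 0) :
    ofCocycle (z + z') (by rw [Preadditive.add_comp, hz, hz', add_zero]) = ofCocycle z hz + ofCocycle z' hz' := by
  apply HomologicalComplex.from_single_hom_ext
  simp [ofCocycle]

/-- the morphism attached to a cocycle -/
noncomputable def θ (C : CochainComplex A ℤ) : cocycles F C →+ ((singleFunctor A 0).obj F ⟶ Q.obj C) where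
  toFun z := Q.map (ofCocycle z.1 z.2)
  map_zero' := (congrArg Q.map (show ofCocycle (C := C) (F := F) 0 zero_comp = 0 from by
      apply HomologicalComplex.from_single_hom_ext; simp [ofCocycle])).trans (Q.map_zero _ _)
  map_add' z z' := (congrArg Q.map (ofCocycle_add F z.1 z'.1 z.2 z'.2)).trans Q.map_add

/-- cocycles are functorial -/
noncomputable def cocyclesMap {C D : CochainComplex A ℤ} (f : C ⟶ D) : cocycles F C →+ cocycles F D where
  toFun z := ⟨z.1 ≫ f.f 0, by
    change (z.1 ≫ f.f 0) ≫ D.d 0 1 = 0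
    rw [Category.assoc, f.comm, ← Category.assoc]
    exact (congrArg (· ≫ f.f 1) z.2).trans zero_comp⟩
  map_zero' := Subtype.ext zero_comp
  map_add' _ _ := Subtype.ext (Preadditive.add_comp ..)

lemma θ_naturality {C D : CochainComplex A ℤ} (f : C ⟶ D) (z : cocycles F C) :
    θ F D (cocyclesMap F f z) = θ F C z ≫ Q.map f := by
  refine (congrArg Q.map ?_).trans (Q.map_comp _ _)
  apply HomologicalComplex.from_single_hom_ext
  simp [ofCocycle, cocyclesMap]

open scoped Classical in
/-- Compactness, for families admitting good representatives. -/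
theorem homSum_bijective [HasExt.{v} A] {ι : Type v} [HasCoproductsOfShape ι A]
    (hsum : ∀ (Y : ι → A) (c : Cofan Y), IsColimit c →
      Function.Bijective (DirectSum.toAddMonoid fun i => Preadditive.rightComp F (c.inj i) :
        (⨁ i, (F ⟶ Y i)) →+ (F ⟶ c.pt)))
    (M : ι → DerivedCategory A) [HasCoproduct M]
    (K : ι → CochainComplex A ℤ) [∀ i, (K i).IsKInjective] (e : ∀ i, Q.obj (K i) ≅ M i)
    (hK : ∀ (z : F ⟶ (∐ K).X 0) (hz : z ≫ (∐ K).d 0 1 = 0), Q.map (ofCocycle z hz) = 0 →
      ∃ w : F ⟶ (∐ K).X (-1), w ≫ (∐ K).d (-1) 0 = z)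
    (hK' : ∀ φ : Q.obj ((CochainComplex.singleFunctor A 0).obj F) ⟶ Q.obj (∐ K),
      ∃ (z : F ⟶ (∐ K).X 0) (hz : z ≫ (∐ K).d 0 1 = 0), Q.map (ofCocycle z hz) = φ)
    (hrep : ∀ K : CochainComplex A ℤ, ∃ (I : CochainComplex A ℤ) (f : K ⟶ I),
      I.IsKInjective ∧ QuasiIso f) :
    Function.Bijective (CohDer.homSumToHomCoprod ((singleFunctor A 0).obj F) M) := by
  obtain ⟨hc⟩ := DHA.KInj.nonempty_isColimit_Q hrep K
  let j : Q.obj (∐ K) ⟶ ∐ M := Cofan.IsColimit.desc hc fun i => (e i).hom ≫ Sigma.ι M i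
  have hj : ∀ i, Q.map (Sigma.ι K i) ≫ j = (e i).hom ≫ Sigma.ι M i := fun i =>
    Cofan.IsColimit.fac hc _ i
  let j' : ∐ M ⟶ Q.obj (∐ K) := Sigma.desc fun i => (e i).inv ≫ Q.map (Sigma.ι K i)
  have hjj : j ≫ j' = 𝟙 _ := Cofan.IsColimit.hom_ext hc _ _ fun i => by
    change Q.map (Sigma.ι K i) ≫ j ≫ j' = Q.map (Sigma.ι K i) ≫ 𝟙 _
    rw [reassoc_of% hj i, Sigma.ι_desc, Iso.hom_inv_id_assoc, Category.comp_id]
  have hj'j : j' ≫ j = 𝟙 _ := Sigma.hom_ext _ _ fun i => by
    rw [Sigma.ι_desc_assoc, Category.assoc, hj, Iso.inv_hom_id_assoc, Category.comp_id]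
  have : IsIso j := ⟨j', hjj, hj'j⟩
  let S0 := (singleFunctor A 0).obj F
  let τ : ∀ i, cocycles F (K i) →+ (S0 ⟶ M i) := fun i =>
    (Preadditive.rightComp S0 (e i).hom).comp (θ F (K i))
  let Sc : (⨁ i, cocycles F (K i)) →+ cocycles F (∐ K) :=
    DirectSum.toAddMonoid fun i => cocyclesMap F (Sigma.ι K i)
  have hcomm : ∀ w, CohDer.homSumToHomCoprod S0 M (DirectSum.map τ w) = θ F (∐ K) (Sc w) ≫ j := by
    intro w
    induction w using DirectSum.induction_on with
    | zero => simp
    | of i z =>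
      rw [DirectSum.map_of]
      simp only [CohDer.homSumToHomCoprod, Sc, DirectSum.toAddMonoid_of]
      rw [θ_naturality, Category.assoc, hj]
      exact Category.assoc _ _ _
    | add a b ha hb => simp only [map_add, ha, hb, Preadditive.add_comp]
  let S : ∀ n : ℤ, (⨁ i, (F ⟶ (K i).X n)) →+ (F ⟶ (∐ K).X n) := fun n =>
    DirectSum.toAddMonoid fun i => Preadditive.rightComp F ((Sigma.ι K i).f n)
  have hS : ∀ n, Function.Bijective (S n) := fun n =>
    hsum (fun i => (K i).X n) _ (isColimitCofanMkObjOfIsColimit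
      (HomologicalComplex.eval A (ComplexShape.up ℤ) n) K _ (coproductIsCoproduct K))
  have hd : ∀ n m (w : ⨁ i, (F ⟶ (K i).X n)),
      S m (DirectSum.map (fun i => Preadditive.rightComp F ((K i).d n m)) w) = S n w ≫ (∐ K).d n m := by
    intro n m w
    induction w using DirectSum.induction_on with
    | zero => simp
    | of i z =>
      rw [DirectSum.map_of]
      simp only [S, DirectSum.toAddMonoid_of]
      exact ((Category.assoc z _ _).trans (congrArg (z ≫ ·) ((Sigma.ι K i).comm n m).symm)).trans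
        (Category.assoc z _ _).symm
    | add a b ha hb => simp only [map_add, ha, hb, Preadditive.add_comp]
  have hincl : ∀ w, (Sc w).1 = S 0 (DirectSum.map (fun i => (cocycles F (K i)).subtype) w) := by
    intro w
    induction w using DirectSum.induction_on with
    | zero => simp
    | of i z =>
      rw [DirectSum.map_of]
      simp only [S, Sc, DirectSum.toAddMonoid_of]
      rfl
    | add a b ha hb => simp only [map_add, AddSubgroup.coe_add, ha, hb]
  refine ⟨(injective_iff_map_eq_zero _).2 fun y hy => ?_, fun φ => ?_⟩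
  · obtain ⟨w, rfl⟩ := exists_map_eq τ y fun i => by
      obtain ⟨f, hf⟩ := DHA.KInj.Q_map_surjective ((CochainComplex.singleFunctor A 0).obj F) (K i)
        (y i ≫ (e i).inv)
      obtain ⟨z, hz, rfl⟩ := exists_ofCocycle f
      refine ⟨⟨z, hz⟩, ?_⟩
      change Q.map (ofCocycle z hz) ≫ (e i).hom = y i
      rw [hf, Category.assoc, Iso.inv_hom_id, Category.comp_id]
    rw [hcomm] at hy
    have hy' : θ F (∐ K) (Sc w) = 0 := (cancel_mono j).1 (hy.trans zero_comp.symm)
    obtain ⟨u, hu⟩ := hK _ (Sc w).2 hy'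
    obtain ⟨v, rfl⟩ := (hS (-1)).2 u
    rw [← hd, hincl] at hu
    have := (hS 0).1 hu
    refine DFinsupp.ext fun i => ?_
    rw [DirectSum.map_apply, DirectSum.zero_apply]
    have hi := congrArg (fun x => x i) this
    simp only [DirectSum.map_apply] at hi
    obtain ⟨h⟩ := nullHomotopy_ofCocycle (w i).1 (w i).2 (v i) hi
    change Q.map (ofCocycle (w i).1 (w i).2) ≫ (e i).hom = 0
    rw [DHA.KInj.Q_map_eq_of_homotopy h, Q.map_zero, zero_comp]
  · obtain ⟨z, hz, hzφ⟩ := hK' (φ ≫ inv j)
    obtain ⟨w, rfl⟩ := (hS 0).2 z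
    have hwd : DirectSum.map (fun i => Preadditive.rightComp F ((K i).d 0 1)) w = 0 :=
      (hS 1).1 (by rw [hd, hz, map_zero])
    obtain ⟨w', rfl⟩ := exists_map_eq (fun i => (cocycles F (K i)).subtype) w fun i =>
      ⟨⟨w i, by
        have := congrArg (fun x => x i) hwd
        simp only [DirectSum.map_apply] at this
        exact this⟩, rfl⟩
    refine ⟨DirectSum.map τ w', ?_⟩
    rw [hcomm]
    have : θ F (∐ K) (Sc w') = φ ≫ inv j := by
      rw [← hzφ]
      change Q.map (ofCocycle _ _) = Q.map (ofCocycle _ _)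
      congr 2
      exact hincl w'
    rw [this, Category.assoc, IsIso.inv_hom_id, Category.comp_id]

end General

variable {C : Type u} [SmallCategory C] {J : GrothendieckTopology C}
  [HasDerivedCategory.{u} (Sheaf J AddCommGrpCat.{u})] {U : C}

omit [HasDerivedCategory.{u} (Sheaf J AddCommGrpCat.{u})] in
open scoped Classical in
lemma hsum_of_preserves {ι : Type u}
    (h : PreservesColimitsOfShape (Discrete ι) ((Sheaf.cohomologyPresheafFunctor J 0).flip.obj (op U)))
    (Y : ι → Sheaf J AddCommGrpCat.{u}) (c : Cofan Y) (hc : IsColimit c) :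
    Function.Bijective (DirectSum.toAddMonoid fun i => Preadditive.rightComp (CohCx.freeSheaf J U) (c.inj i) :
      (⨁ i, (CohCx.freeSheaf J U ⟶ Y i)) →+ (CohCx.freeSheaf J U ⟶ c.pt)) := by
  let G := (Sheaf.cohomologyPresheafFunctor J 0).flip.obj (op U)
  have h' := bijective_of_isColimit (Cofan.mk (G.obj c.pt) fun i => G.map (c.inj i))
    (isColimitCofanMkObjOfIsColimit G Y _ (hc.ofIsoColimit (Cocone.ext (Iso.refl _) (by intro j; simp; rfl))))
  let e : ∀ Z : Sheaf J AddCommGrpCat.{u}, (CohCx.freeSheaf J U ⟶ Z) ≃+ G.obj Z := fun Z =>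
    Abelian.Ext.addEquiv₀.symm
  have hcomm : ∀ w, e c.pt (DirectSum.toAddMonoid
      (fun i => Preadditive.rightComp (CohCx.freeSheaf J U) (c.inj i)) w) =
      DirectSum.toAddMonoid (fun i => (G.map (c.inj i)).hom)
        (DirectSum.map (fun i => (e (Y i)).toAddMonoidHom) w) := by
    intro w
    induction w using DirectSum.induction_on with
    | zero => simp
    | of i z =>
      rw [DirectSum.map_of, DirectSum.toAddMonoid_of, DirectSum.toAddMonoid_of]
      exact (Abelian.Ext.mk₀_comp_mk₀ z (c.inj i)).symm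
    | add a b ha hb => simp only [map_add, ha, hb]
  have hb : Function.Bijective (DirectSum.map (fun i => (e (Y i)).toAddMonoidHom)) :=
    ⟨(DirectSum.map_injective _).2 fun i => (e (Y i)).injective,
      (DirectSum.map_surjective _).2 fun i => (e (Y i)).surjective⟩
  have := h'.comp hb
  refine ⟨fun a b hab => this.1 ((hcomm a).symm.trans ((congrArg (e c.pt) hab).trans (hcomm b))),
    fun z => ?_⟩
  obtain ⟨w, hw⟩ := this.2 (e c.pt z)
  exact ⟨w, (e c.pt).injective ((hcomm w).trans hw)⟩

omit [HasDerivedCategory.{u} (Sheaf J AddCommGrpCat.{u})] in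
open scoped Classical in
lemma acyclic_coproduct {ι : Type u}
    (h : ∀ p : ℕ, PreservesColimitsOfShape (Discrete ι) ((Sheaf.cohomologyPresheafFunctor J p).flip.obj (op U)))
    (Y : ι → Sheaf J AddCommGrpCat.{u}) (hY : ∀ i, Acyclic (CohCx.freeSheaf J U) (Y i))
    (c : Cofan Y) (hc : IsColimit c) : Acyclic (CohCx.freeSheaf J U) c.pt := by
  intro k hk
  let G := (Sheaf.cohomologyPresheafFunctor J k).flip.obj (op U)
  have := h k
  have h' := bijective_of_isColimit (Cofan.mk (G.obj c.pt) fun i => G.map (c.inj i))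
    (isColimitCofanMkObjOfIsColimit G Y _ (hc.ofIsoColimit (Cocone.ext (Iso.refl _) (by intro j; simp; rfl))))
  have : ∀ i, Subsingleton (G.obj (Y i)) := fun i => hY i k hk
  have : Subsingleton (⨁ i, G.obj (Y i)) := ⟨fun a b => DFinsupp.ext fun i => Subsingleton.elim _ _⟩
  exact h'.2.subsingleton

/-- The compactness statement for families with representatives. -/
theorem homSum_bijective_site {ι : Type u}
    (h : ∀ p : ℕ, PreservesColimitsOfShape (Discrete ι) ((Sheaf.cohomologyPresheafFunctor J p).flip.obj (op U)))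
    (M : ι → DerivedCategory (Sheaf J AddCommGrpCat.{u})) [HasCoproduct M]
    (K : ι → CochainComplex (Sheaf J AddCommGrpCat.{u}) ℤ) [∀ i, (K i).IsKInjective]
    [∀ i n, Injective ((K i).X n)] (e : ∀ i, Q.obj (K i) ≅ M i)
    (hb : (∃ d : ℕ, ∀ (Y : Sheaf J AddCommGrpCat.{u}) (k : ℕ), d < k →
      Subsingleton (Abelian.Ext (CohCx.freeSheaf J U) Y k)) ∨ ∃ b : ℤ, ∀ i, (K i).IsStrictlyGE b) :
    Function.Bijective (CohDer.homSumToHomCoprod
      ((singleFunctor (Sheaf J AddCommGrpCat.{u}) 0).obj (CohCx.freeSheaf J U)) M) := by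
  have hcol : ∀ n, IsColimit (Cofan.mk ((∐ K).X n) fun i => (Sigma.ι K i).f n) := fun n =>
    isColimitCofanMkObjOfIsColimit (HomologicalComplex.eval _ (ComplexShape.up ℤ) n) K _
      (coproductIsCoproduct K)
  have hac : ∀ n, Acyclic (CohCx.freeSheaf J U) ((∐ K).X n) := fun n =>
    acyclic_coproduct h _ (fun i => acyclic_of_injective _ _) _ (hcol n)
  have hrep : ∀ K : CochainComplex (Sheaf J AddCommGrpCat.{u}) ℤ,
      ∃ (I : CochainComplex (Sheaf J AddCommGrpCat.{u}) ℤ) (f : K ⟶ I), I.IsKInjective ∧ QuasiIso f :=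
    fun K => ⟨_, (DHA.KInj.resolutionι _).app K, inferInstance, inferInstance⟩
  have hI : ∃ (I : CochainComplex (Sheaf J AddCommGrpCat.{u}) ℤ) (r : (∐ K) ⟶ I),
      QuasiIso r ∧ I.IsKInjective ∧ (∀ p, Injective (I.X p)) ∧
      ((∃ d : ℕ, ∀ (Y : Sheaf J AddCommGrpCat.{u}) (k : ℕ), d < k →
        Subsingleton (Abelian.Ext (CohCx.freeSheaf J U) Y k)) ∨
        ∃ b : ℤ, (∐ K).IsStrictlyGE b ∧ I.IsStrictlyGE b) := by
    rcases hb with hd | ⟨b, hb⟩
    · exact ⟨(DHA.KInj.resolution _).obj (∐ K), (DHA.KInj.resolutionι _).app _, inferInstance,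
        inferInstance, fun p => inferInstance, Or.inl hd⟩
    · have : (∐ K).IsStrictlyGE b := by
        rw [CochainComplex.isStrictlyGE_iff]
        intro n hn
        rw [IsZero.iff_id_eq_zero]
        exact Cofan.IsColimit.hom_ext (hcol n) _ _ fun i =>
          (have := hb i; ((K i).isZero_of_isStrictlyGE b n hn).eq_of_src _ _)
      obtain ⟨I, r, hr, hI, hI'⟩ :=
        CochainComplex.Plus.modelCategoryQuillen.exists_quasiIso_injective (∐ K) b
      exact ⟨I, r, hr, CochainComplex.isKInjective_of_injective I b, hI, Or.inr ⟨b, this, hI'⟩⟩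
  obtain ⟨h1, h2⟩ := Q_map_single_bijective (∐ K) hac hI
  exact homSum_bijective _ (hsum_of_preserves (h 0)) M K e h2 h1 hrep

end Groth.Agent.CohDerLib.Compact
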